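import Groth.Agent.Lib.SmoothSection.Basic
import Mathlib.AlgebraicGeometry.Morphisms.UniversallyOpen

/-!
# Etale local sections of smooth morphisms of schemes
-/

universe u

set_option backward.isDefEq.respectTransparency.types false

open CategoryTheory CategoryTheory.Limits AlgebraicGeometry

namespace Groth.Agent.SmoothSection

/-- An open set of affine space meeting the fibre over `p` contains a point of an etale algebra. -/
theorem exists_etale_point {R : Type u} [CommRing R] {n : ℕ}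
    {O : Set (PrimeSpectrum (MvPolynomial (Fin n) R))} (hO : IsOpen O)
    {P₁ : PrimeSpectrum (MvPolynomial (Fin n) R)} (hP₁ : P₁ ∈ O) :
    ∃ (R' : Type u) (_ : CommRing R') (_ : Algebra R R') (_ : Algebra.Etale R R')
      (θ : MvPolynomial (Fin n) R →ₐ[R] R') (Q : PrimeSpectrum R'),
      PrimeSpectrum.comap (algebraMap R R') Q = PrimeSpectrum.comap MvPolynomial.C P₁ ∧
        PrimeSpectrum.comap θ.toRingHom Q ∈ O := by
  obtain ⟨_, ⟨h, rfl⟩, hh₁, hh₂⟩ := PrimeSpectrum.isTopologicalBasis_basic_opens.exists_subset_of_mem_open hP₁ hO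
  let p : Ideal R := P₁.asIdeal.comap MvPolynomial.C
  let hκ := MvPolynomial.map (algebraMap R p.ResidueField) h
  have hκ0 : hκ ≠ 0 := fun e => hh₁ (by
    change h ∈ P₁.asIdeal
    have : h ∈ p.map (MvPolynomial.C : R →+* MvPolynomial (Fin n) R) :=
      MvPolynomial.mem_map_C_iff.2 fun m => by
        rw [← Ideal.algebraMap_residueField_eq_zero (I := p), ← MvPolynomial.coeff_map]
        rw [show MvPolynomial.map (algebraMap R p.ResidueField) h = 0 from e, MvPolynomial.coeff_zero]
    exact (Ideal.map_comap_le : p.map MvPolynomial.C ≤ P₁.asIdeal) this)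
  obtain ⟨K, a, hK, ha⟩ := exists_separable_nonvanishing hκ0
  obtain ⟨R', _, _, _, φ, hφ⟩ := exists_etale_lifts p K a
  choose b hb using hφ
  let θ : MvPolynomial (Fin n) R →ₐ[R] R' := MvPolynomial.aeval b
  have hp : RingHom.ker (algebraMap R K) = p := by
    rw [IsScalarTower.algebraMap_eq R p.ResidueField K, RingHom.ker_comp_of_injective _
      (algebraMap p.ResidueField K).injective, Ideal.ker_algebraMap_residueField]
  refine ⟨R', inferInstance, inferInstance, inferInstance, θ, ⟨RingHom.ker φ.toRingHom, RingHom.ker_isPrime _⟩, ?_, ?_⟩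
  · apply PrimeSpectrum.ext
    change (RingHom.ker φ.toRingHom).comap (algebraMap R R') = p
    rw [RingHom.comap_ker]; exact (congrArg RingHom.ker φ.comp_algebraMap).trans hp
  · refine hh₂ fun hmem => ha ?_
    have hmem' : φ (θ h) = 0 := hmem
    rw [MvPolynomial.aeval_map_algebraMap]
    rw [MvPolynomial.comp_aeval_apply] at hmem'
    simpa [hb] using hmem'

/-- A smooth morphism has sections etale locally on its image. -/
theorem exists_etale_section {X S : Scheme.{u}} (f : X ⟶ S) [Smooth f] (x : X) :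
    ∃ (S' : Scheme.{u}) (g : S' ⟶ S) (s' : S'), Etale g ∧ g s' = f x ∧ ∃ h : S' ⟶ X, h ≫ f = g := by
  obtain ⟨U, hU, V, hV, hxV, e, hsm⟩ := Smooth.exists_isStandardSmooth f x
  obtain ⟨n, γ, hγC, hγ⟩ := RingHom.IsStandardSmooth.exists_etale_mvPolynomial hsm
  let q : Spec (CommRingCat.of (MvPolynomial (Fin n) Γ(S, U))) ⟶ Spec Γ(S, U) :=
    Spec.map (CommRingCat.ofHom MvPolynomial.C)
  let π : Spec Γ(X, V) ⟶ Spec (CommRingCat.of (MvPolynomial (Fin n) Γ(S, U))) :=
    Spec.map (CommRingCat.ofHom γ)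
  have : Etale π := (HasRingHomProperty.Spec_iff (P := @Etale)).2 hγ
  have hπq : π ≫ q = Spec.map (f.appLE U V e) := by
    rw [← Spec.map_comp, ← CommRingCat.ofHom_comp, hγC]; rfl
  obtain ⟨y, hy⟩ : ∃ y, hV.fromSpec y = x := by
    have : x ∈ Set.range hV.fromSpec := by rw [hV.range_fromSpec]; exact hxV
    exact this
  obtain ⟨R', _, _, _, θ, Q, hQp, hQO⟩ := exists_etale_point π.isOpenMap.isOpen_range ⟨y, rfl⟩
  obtain ⟨z, hz⟩ := hQO
  let θ' : Spec (CommRingCat.of R') ⟶ Spec (CommRingCat.of (MvPolynomial (Fin n) Γ(S, U))) :=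
    Spec.map (CommRingCat.ofHom θ.toRingHom)
  have hθq : θ' ≫ q = Spec.map (CommRingCat.ofHom (algebraMap Γ(S, U) R')) := by
    rw [← Spec.map_comp, ← CommRingCat.ofHom_comp]
    congr 2
    exact θ.comp_algebraMap
  have : Etale (Spec.map (CommRingCat.ofHom (algebraMap Γ(S, U) R'))) :=
    (HasRingHomProperty.Spec_iff (P := @Etale)).2 (RingHom.etale_algebraMap.2 ‹_›)
  obtain ⟨w, -, hw₂⟩ := Scheme.Pullback.exists_preimage_pullback (f := π) (g := θ') z Q hz
  refine ⟨pullback π θ', pullback.snd π θ' ≫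
      Spec.map (CommRingCat.ofHom (algebraMap Γ(S, U) R')) ≫ hU.fromSpec, w, inferInstance, ?_,
    pullback.fst π θ' ≫ hV.fromSpec, ?_⟩
  · rw [← hy, Scheme.Hom.comp_apply, Scheme.Hom.comp_apply, hw₂]
    have e₁ : Spec.map (CommRingCat.ofHom (algebraMap Γ(S, U) R')) Q = (π ≫ q) y := hQp
    rw [e₁, hπq]
    rw [← Scheme.Hom.comp_apply, hU.SpecMap_appLE_fromSpec f hV e]
    rfl
  · rw [Category.assoc, ← hU.SpecMap_appLE_fromSpec f hV e, ← hπq, ← hθq]
    simp only [Category.assoc]
    exact pullback.condition_assoc _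

end Groth.Agent.SmoothSection
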