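import Mathlib.RingTheory.Etale.StandardEtale
import Mathlib.RingTheory.RingHom.StandardSmooth
import Mathlib.FieldTheory.IsSepClosed
import Mathlib.Algebra.MvPolynomial.Funext
import Mathlib.FieldTheory.PrimitiveElement
import Mathlib.AlgebraicGeometry.Morphisms.Etale
import Mathlib.AlgebraicGeometry.Morphisms.Smooth

/-!
# Sections of smooth morphisms exist etale locally on the base
-/

universe u

open Polynomial

namespace Groth.Agent.SmoothSection

/-- Finitely many elements of a residue field come from an inversion of one element. -/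
theorem exists_away_lifts {R : Type u} [CommRing R] (p : Ideal R) [p.IsPrime] {ι : Type*}
    (T : Finset ι) (c : ι → p.ResidueField) :
    ∃ (r : R) (hr : r ∉ p) (ψ : Localization.Away r →ₐ[R] p.ResidueField),
      ∀ i ∈ T, c i ∈ Set.range ψ := by
  classical
  choose a b hb hab using fun i => IsFractionRing.div_surjective (A := R ⧸ p) (c i)
  choose a' ha' using fun i => Ideal.Quotient.mk_surjective (a i)
  choose b' hb' using fun i => Ideal.Quotient.mk_surjective (b i)
  let r := ∏ i ∈ T, b' i
  have hr : r ∉ p := fun h => by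
    obtain ⟨i, -, hi⟩ := (Ideal.IsPrime.prod_mem_iff (hp := ‹_›)).1 h
    exact (mem_nonZeroDivisors_iff_ne_zero.1 (hb i)) (by rw [← hb' i, Ideal.Quotient.eq_zero_iff_mem]; exact hi)
  have hru : IsUnit (algebraMap R p.ResidueField r) :=
    (Ne.isUnit fun h => hr (Ideal.algebraMap_residueField_eq_zero.1 h))
  let ψ : Localization.Away r →ₐ[R] p.ResidueField :=
    IsLocalization.liftAlgHom (M := Submonoid.powers r) (f := Algebra.ofId R p.ResidueField)
      (by rintro ⟨_, n, rfl⟩; simpa using hru.pow n)
  refine ⟨r, hr, ψ, fun i hi => ?_⟩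
  have hbi : IsUnit (algebraMap R (Localization.Away r) (b' i)) :=
    isUnit_of_dvd_unit (map_dvd _ (Finset.dvd_prod_of_mem _ hi))
      (IsLocalization.Away.algebraMap_isUnit r)
  refine ⟨algebraMap R _ (a' i) * ↑hbi.unit⁻¹, ?_⟩
  rw [← hab i, eq_div_iff]
  · rw [← ha' i, ← hb' i]
    change ψ _ * algebraMap R p.ResidueField (b' i) = algebraMap R p.ResidueField (a' i)
    rw [← ψ.commutes (b' i), ← map_mul, mul_assoc, IsUnit.val_inv_mul, mul_one, ψ.commutes]
  · exact IsFractionRing.to_map_ne_zero_of_mem_nonZeroDivisors (hb i)

/-- Finitely many elements of a finite separable extension of a residue field lift to an etale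
algebra. -/
theorem exists_etale_lifts {R : Type u} [CommRing R] (p : Ideal R) [p.IsPrime]
    (K : Type u) [Field K] [Algebra R K] [Algebra p.ResidueField K]
    [IsScalarTower R p.ResidueField K] [FiniteDimensional p.ResidueField K]
    [Algebra.IsSeparable p.ResidueField K] {n : ℕ} (a : Fin n → K) :
    ∃ (R' : Type u) (_ : CommRing R') (_ : Algebra R R') (_ : Algebra.Etale R R')
      (φ : R' →ₐ[R] K), ∀ i, a i ∈ Set.range φ := by
  classical
  obtain ⟨α, hα⟩ := Field.exists_primitive_element p.ResidueField K
  have hint : IsIntegral p.ResidueField α := Algebra.IsIntegral.isIntegral α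
  have hadj : ∀ i, ∃ q : p.ResidueField[X], aeval α q = a i := fun i => by
    have : a i ∈ Algebra.adjoin p.ResidueField {α} := by
      rw [← IntermediateField.adjoin_simple_toSubalgebra_of_isAlgebraic hint.isAlgebraic, hα]
      exact trivial
    rw [Algebra.adjoin_singleton_eq_range_aeval] at this
    exact this
  choose q hq using hadj
  let T : Finset p.ResidueField := (minpoly p.ResidueField α).coeffs ∪ Finset.univ.biUnion fun i => (q i).coeffs
  obtain ⟨r, hr, ψ, hψ⟩ := exists_away_lifts p T id
  have lifts : ∀ P : p.ResidueField[X], P.coeffs ⊆ T → P ∈ Polynomial.lifts ψ.toRingHom := fun P hP => by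
    rw [Polynomial.lifts_iff_coeff_lifts]
    intro k
    by_cases hk : P.coeff k = 0
    · exact ⟨0, by rw [hk, map_zero]⟩
    · exact hψ _ (hP (Polynomial.coeff_mem_coeffs hk))
  obtain ⟨f, hf, -, hfm⟩ := Polynomial.lifts_and_natDegree_eq_and_monic
    (lifts _ Finset.subset_union_left) (minpoly.monic hint)
  let ψK : Localization.Away r →ₐ[R] K := (IsScalarTower.toAlgHom R p.ResidueField K).comp ψ
  letI : Algebra (Localization.Away r) K := ψK.toRingHom.toAlgebra
  have : IsScalarTower R (Localization.Away r) K :=
    IsScalarTower.of_algebraMap_eq' ψK.comp_algebraMap.symm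
  have haev : ∀ P : (Localization.Away r)[X],
      aeval α P = aeval α (P.map ψ.toRingHom) := fun P => by
    rw [aeval_def, aeval_def, eval₂_map]
    rfl
  let P : StandardEtalePair (Localization.Away r) :=
    ⟨f, hfm, derivative f, ⟨1, 0, 1, by simp⟩⟩
  have hP : P.HasMap α := by
    constructor
    · rw [haev, hf, minpoly.aeval]
    · rw [haev, ← derivative_map, hf]
      exact (Ne.isUnit ((Algebra.IsSeparable.isSeparable p.ResidueField α).aeval_derivative_ne_zero
        (minpoly.aeval _ _)))
  letI : Algebra R P.Ring :=
    ((algebraMap (Localization.Away r) P.Ring).comp (algebraMap R (Localization.Away r))).toAlgebra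
  have : IsScalarTower R (Localization.Away r) P.Ring := IsScalarTower.of_algebraMap_eq' rfl
  have : Algebra.Etale R (Localization.Away r) := Algebra.Etale.of_isLocalizationAway r
  have : Algebra.Etale R P.Ring := Algebra.Etale.comp R (Localization.Away r) P.Ring
  let φ : P.Ring →ₐ[R] K := (P.lift α hP).restrictScalars R
  refine ⟨P.Ring, inferInstance, inferInstance, inferInstance, φ, fun i => ?_⟩
  obtain ⟨Q, hQ⟩ := (Polynomial.mem_lifts _).1 (lifts (q i)
    (Finset.subset_union_right.trans' (Finset.subset_biUnion_of_mem (fun i => (q i).coeffs) (Finset.mem_univ i))))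
  refine ⟨aeval P.X Q, ?_⟩
  change P.lift α hP (aeval P.X Q) = a i
  rw [← aeval_algHom_apply, StandardEtalePair.lift_X, haev, hQ, hq]

/-- A nonzero polynomial has a non-vanishing point in a finite separable extension. -/
theorem exists_separable_nonvanishing {κ : Type u} [Field κ] {n : ℕ} {h : MvPolynomial (Fin n) κ}
    (hh : h ≠ 0) :
    ∃ (K : IntermediateField κ (SeparableClosure κ)) (a : Fin n → K),
      FiniteDimensional κ K ∧ MvPolynomial.aeval a h ≠ 0 := by
  have : Infinite (SeparableClosure κ) := by
    refine not_finite_iff_infinite.1 fun hfin => ?_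
    have : IsAlgClosed (SeparableClosure κ) := IsSepClosed.isAlgClosed_of_perfectField _
    exact not_finite (SeparableClosure κ)
  obtain ⟨b, hb⟩ : ∃ b : Fin n → SeparableClosure κ, MvPolynomial.aeval b h ≠ 0 := by
    by_contra! hc
    refine hh (MvPolynomial.map_injective _ (algebraMap κ (SeparableClosure κ)).injective ?_)
    rw [map_zero]
    exact MvPolynomial.funext fun b => by
      rw [MvPolynomial.eval_map, ← MvPolynomial.aeval_def, hc b, map_zero]
  have : FiniteDimensional κ (IntermediateField.adjoin κ (Set.range b)) :=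
    IntermediateField.finiteDimensional_adjoin fun x _ => Algebra.IsIntegral.isIntegral x
  let a : Fin n → IntermediateField.adjoin κ (Set.range b) := fun i =>
    ⟨b i, IntermediateField.subset_adjoin κ _ ⟨i, rfl⟩⟩
  refine ⟨_, a, this, fun e => hb ?_⟩
  have hc := MvPolynomial.comp_aeval_apply (f := a) (IntermediateField.adjoin κ (Set.range b)).val h
  rw [e, map_zero] at hc
  exact hc.symm

end Groth.Agent.SmoothSection
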